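import Cfsg.Agent.H765.D3.Sub

/-!
# S5261, part E, [TE-LA2]: linear algebra of the cross product on the cubic extension `K / F`
-/

set_option autoImplicit false
set_option linter.unusedSectionVars false

namespace Cfsg.Agent.H511.TE

open Cfsg.Agent.H765.D3
open Cfsg.Agent.Hex.Defs (sh cr nm tr)

variable {F K : Type*} [Field F] [Field K] [Algebra F K]
variable (φ : K ≃ₐ[F] K) [Cub φ]

/-- `1, t, t²` are independent over `F` if `t ∉ F` -/
theorem quad_indep {t : K} (ht : φ t ≠ t) {x y z : F}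
    (h : algebraMap F K x + algebraMap F K y * t + algebraMap F K z * t ^ 2 = 0) : x = 0 ∧ y = 0 ∧ z = 0 := by
  have ht2 : φ (φ t) ≠ t := fun e => ht (by
    have := congrArg φ e
    rw [phi3] at this
    exact this.symm)
  have ht3 : φ (φ t) ≠ φ t := fun e => ht (φ.injective e)
  have h1 := congrArg φ h
  have h2 := congrArg φ h1
  simp only [map_add, map_mul, map_pow, phi_coe, map_zero] at h1 h2
  have e1 : (φ t - t) * (algebraMap F K z * (t + φ t) + algebraMap F K y) = 0 := by linear_combination h1 - h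
  have e2 : (φ (φ t) - t) * (algebraMap F K z * (t + φ (φ t)) + algebraMap F K y) = 0 := by
    linear_combination h2 - h
  have f1 := (mul_eq_zero.1 e1).resolve_left (sub_ne_zero.2 ht)
  have f2 := (mul_eq_zero.1 e2).resolve_left (sub_ne_zero.2 ht2)
  have f3 : algebraMap F K z * (φ (φ t) - φ t) = 0 := by linear_combination f2 - f1
  have hz := (mul_eq_zero.1 f3).resolve_right (sub_ne_zero.2 ht3)
  have hy : algebraMap F K y = 0 := by rw [hz, zero_mul, zero_add] at f1; exact f1
  have hx : algebraMap F K x = 0 := by rw [hz, hy, zero_mul, zero_mul, add_zero, add_zero] at h; exact h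
  exact ⟨(map_eq_zero _).1 hx, (map_eq_zero _).1 hy, (map_eq_zero _).1 hz⟩

/-- `1, t, t²` span `K` if `t ∉ F` -/
theorem quad_span {t : K} (ht : φ t ≠ t) (s : K) :
    ∃ x y z : F, s = algebraMap F K x + algebraMap F K y * t + algebraMap F K z * t ^ 2 := by
  have ht2 : φ (φ t) ≠ t := fun e => ht (by
    have := congrArg φ e
    rw [phi3] at this
    exact this.symm)
  have hd : (t - φ t) * (t - φ (φ t)) ≠ 0 := mul_ne_zero (sub_ne_zero.2 ht.symm) (sub_ne_zero.2 ht2.symm)
  obtain ⟨w, hw⟩ : ∃ w : K, w * ((t - φ t) * (t - φ (φ t))) = s := ⟨s / _, div_mul_cancel₀ s hd⟩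
  refine ⟨tr φ (w * sh φ t), -tr φ (w * (φ t + φ (φ t))), tr φ w, ?_⟩
  rw [← hw]
  simp only [map_neg, coe_tr, map_mul, map_add, phi3, sh]
  ring

/-- an element `t` with `c = a t`, not in `F` -/
theorem exists_ratio {a c : K} (h : LinearIndependent F ![a, c]) : a ≠ 0 ∧ ∃ t : K, φ t ≠ t ∧ c = a * t := by
  have ha : a ≠ 0 := h.ne_zero 0
  refine ⟨ha, c / a, fun e => ?_, (mul_div_cancel₀ c ha).symm⟩
  obtain ⟨s, hs⟩ := exists_coe φ e
  have h1 := (LinearIndependent.pair_iff.1 h) s (-1) (by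
    rw [Algebra.smul_def, hs, div_mul_cancel₀ c ha, neg_one_smul, add_neg_cancel])
  simpa using h1.2

theorem pair_indep_iff {a c : K} :
    LinearIndependent F ![a, c] ↔ a ≠ 0 ∧ ∀ s : F, c ≠ s • a := by
  constructor
  · intro h
    refine ⟨h.ne_zero 0, fun s e => ?_⟩
    have h1 := (LinearIndependent.pair_iff.1 h) s (-1) (by rw [e, neg_one_smul, add_neg_cancel])
    simpa using h1.2
  · rintro ⟨ha, h⟩
    refine LinearIndependent.pair_iff.2 fun s t e => ?_
    have ht : t = 0 := by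
      by_contra ht
      apply h (-(s / t))
      have : c = t⁻¹ • (t • c) := (inv_smul_smul₀ ht c).symm
      rw [this, show t • c = -(s • a) by linear_combination (exp := 1) e, smul_neg, smul_smul, neg_smul,
        div_eq_inv_mul]
    refine ⟨?_, ht⟩
    rw [ht, zero_smul, add_zero] at e
    exact (smul_eq_zero.1 e).resolve_right ha

/-- (1), any characteristic: `sh a`, `cr a c`, `sh c` are independent. -/
theorem sh_cr_sh_indep {a c : K} (h : LinearIndependent F ![a, c]) :
    LinearIndependent F ![sh φ a, cr φ a c, sh φ c] := by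
  obtain ⟨ha, t, ht, rfl⟩ := exists_ratio φ h
  have hsa : sh φ a ≠ 0 := fun e => ha ((sh_eq_zero φ).1 e)
  rw [Fintype.linearIndependent_iff]
  intro g hg
  rw [Fin.sum_univ_three] at hg
  simp only [Matrix.cons_val_zero, Matrix.cons_val_one, Matrix.cons_val] at hg
  have e1 : sh φ a * (algebraMap F K (g 0 + g 1 * tr φ t + g 2 * tr φ (sh φ t)) +
      algebraMap F K (-g 1 - g 2 * tr φ t) * t + algebraMap F K (g 2) * t ^ 2) = 0 := by
    rw [← hg]
    cub
  obtain ⟨f1, f2, f3⟩ := quad_indep φ ht ((mul_eq_zero.1 e1).resolve_left hsa)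
  have g1 : g 1 = 0 := by linear_combination -f2 - tr φ t * f3
  have g0 : g 0 = 0 := by linear_combination f1 - tr φ t * g1 - tr φ (sh φ t) * f3
  intro i
  fin_cases i
  · exact g0
  · exact g1
  · exact f3

/-- (1), any characteristic: `sh a`, `cr a c`, `sh c` span `K`. -/
theorem sh_cr_sh_span {a c : K} (h : LinearIndependent F ![a, c]) (s : K) :
    ∃ x y z : F, s = x • sh φ a + y • cr φ a c + z • sh φ c := by
  obtain ⟨ha, t, ht, rfl⟩ := exists_ratio φ h
  have hsa : sh φ a ≠ 0 := fun e => ha ((sh_eq_zero φ).1 e)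
  obtain ⟨x, y, z, e⟩ := quad_span φ ht (s / sh φ a)
  refine ⟨x + (y + z * tr φ t) * tr φ t - z * tr φ (sh φ t), -(y + z * tr φ t), z, ?_⟩
  have e2 : s = sh φ a * (s / sh φ a) := (mul_div_cancel₀ s hsa).symm
  rw [e2, e]
  cub

/-- (1) if `a`, `c` are independent over `F` then so are `cr a a`, `cr a c`, `cr c c`. -/
theorem cr_indep (h2 : (2 : K) ≠ 0) {a c : K} (h : LinearIndependent F ![a, c]) :
    LinearIndependent F ![cr φ a a, cr φ a c, cr φ c c] := by
  have h2' : (2 : F) ≠ 0 := fun e => h2 (by rw [← map_ofNat (algebraMap F K) 2, e, map_zero])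
  have h1 := sh_cr_sh_indep φ h
  rw [Fintype.linearIndependent_iff] at h1 ⊢
  intro g hg
  have h3 := h1 ![2 * g 0, g 1, 2 * g 2] (by
    rw [← hg, Fin.sum_univ_three, Fin.sum_univ_three]
    simp only [Matrix.cons_val_zero, Matrix.cons_val_one, Matrix.cons_val]
    cub)
  intro i
  fin_cases i
  · exact (mul_eq_zero.1 (h3 0)).resolve_left h2'
  · exact h3 1
  · exact (mul_eq_zero.1 (h3 2)).resolve_left h2'

/-- (1) and they span `K`. -/
theorem cr_span (h2 : (2 : K) ≠ 0) {a c : K} (h : LinearIndependent F ![a, c]) (s : K) :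
    ∃ x y z : F, s = x • cr φ a a + y • cr φ a c + z • cr φ c c := by
  have h2' : (2 : F) ≠ 0 := fun e => h2 (by rw [← map_ofNat (algebraMap F K) 2, e, map_zero])
  obtain ⟨x, y, z, e⟩ := sh_cr_sh_span φ h s
  refine ⟨x / 2, y, z / 2, ?_⟩
  rw [e, cr_self, cr_self]
  have e1 : ∀ (u : F) (r : K), u • r = (u / 2) • (2 * r) := fun u r => by
    rw [Algebra.smul_def, Algebra.smul_def, map_div₀, map_ofNat]
    field_simp
  rw [e1 x, e1 z]

theorem cr_span_top (h2 : (2 : K) ≠ 0) {a c : K} (h : LinearIndependent F ![a, c]) :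
    Submodule.span F {cr φ a a, cr φ a c, cr φ c c} = ⊤ := by
  rw [eq_top_iff]
  intro s _
  obtain ⟨x, y, z, e⟩ := cr_span φ h2 h s
  exact Submodule.mem_span_triple.2 ⟨x, y, z, e.symm⟩

/-- the span in additive form: a subgroup of `K` containing all `F`-multiples of `cr a a`, `cr a c`, `cr c c` is `K` -/
theorem cr_closure (h2 : (2 : K) ≠ 0) {a c : K} (h : LinearIndependent F ![a, c]) (V : AddSubgroup K)
    (h1 : ∀ s : F, s • cr φ a a ∈ V) (h3 : ∀ s : F, s • cr φ a c ∈ V) (h4 : ∀ s : F, s • cr φ c c ∈ V) : V = ⊤ := by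
  rw [eq_top_iff]
  intro s _
  obtain ⟨x, y, z, e⟩ := cr_span φ h2 h s
  rw [e]
  exact V.add_mem (V.add_mem (h1 x) (h3 y)) (h4 z)

/-- (2) the additive maps `f` with `cr a (f b) = cr (f a) b` are the multiplications by elements of `F`. -/
theorem exists_smul_of_cr (h2 : (2 : K) ≠ 0) (f : K →+ K) (h : ∀ a b : K, cr φ a (f b) = cr φ (f a) b) :
    ∃ k : F, ∀ a : K, f a = k • a := by
  set k : K := f 1 with hk
  -- the formula for `2 f a`
  have h3 : ∀ a : K, 2 * f a = (φ k + φ (φ k)) * a + (k - φ (φ k)) * φ a + (k - φ k) * φ (φ a) := fun a => by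
    have e1 := h a 1
    rw [← hk, cr, cr, map_one, map_one, mul_one, mul_one] at e1
    have e2 := congrArg φ e1
    have e3 := congrArg φ e2
    simp only [map_add, map_mul, phi3] at e2 e3
    linear_combination e1 - e2 - e3
  -- compare coefficients
  have h4 : ∀ b a : K, (-(φ (k - φ k) * φ (φ b) + φ (φ (k - φ (φ k))) * φ b)) * a +
      (φ (φ (2 * f b)) - φ (φ k + φ (φ k)) * φ (φ b) - φ (φ (k - φ k)) * φ b) * φ a +
      (φ (2 * f b) - φ (k - φ (φ k)) * φ (φ b) - φ (φ (φ k + φ (φ k))) * φ b) * φ (φ a) = 0 := fun b a => by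
    have e1 : cr φ a (2 * f b) = cr φ (2 * f a) b := by
      have := h a b
      rw [cr, cr] at this ⊢
      simp only [map_mul, map_ofNat]
      linear_combination 2 * this
    rw [cr, cr, h3 a] at e1
    simp only [map_add, map_sub, map_mul, phi3] at e1 ⊢
    linear_combination e1
  have h5 : ∀ b : K, (0 : K) * b + φ (φ (k - φ (φ k))) * φ b + φ (k - φ k) * φ (φ b) = 0 := fun b => by
    have := (dedekind φ (h4 b)).1
    linear_combination -this
  have h6 := (dedekind φ h5).2.2
  have h7 : k - φ k = 0 := (map_eq_zero φ).1 h6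
  obtain ⟨s, hs⟩ := exists_coe φ (sub_eq_zero.1 h7).symm
  refine ⟨s, fun a => mul_left_cancel₀ h2 ?_⟩
  rw [h3 a, ← hs, phi_coe, phi_coe, Algebra.smul_def]
  ring

/-- (3) `cr a` is bijective for `a ≠ 0`. -/
theorem cr_bijective (h2 : (2 : K) ≠ 0) {a : K} (ha : a ≠ 0) : Function.Bijective (fun b : K => cr φ a b) := by
  have ha1 : φ a ≠ 0 := by simpa using ha
  have ha2 : φ (φ a) ≠ 0 := by simpa using ha
  refine ⟨fun b b' e => ?_, fun c => ?_⟩
  · have e1 : cr φ a (b - b') = 0 := by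
      have e2 : cr φ a b = cr φ a b' := e
      rw [sub_eq_add_neg, cr_add_right, cr_neg_right, e2, add_neg_cancel]
    exact sub_eq_zero.1 ((cr_eq_zero φ h2 e1).resolve_left ha)
  · refine ⟨(φ a * φ c + φ (φ a) * φ (φ c) - a * c) / (2 * (φ a * φ (φ a))), ?_⟩
    show cr φ a _ = c
    rw [cr]
    simp only [map_div₀, map_sub, map_add, map_mul, phi3, map_ofNat]
    field_simp
    ring

theorem exists_cr_eq (h2 : (2 : K) ≠ 0) {a : K} (ha : a ≠ 0) (c : K) : ∃ b : K, cr φ a b = c :=
  (cr_bijective φ h2 ha).2 c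

theorem cr_injective (h2 : (2 : K) ≠ 0) {a : K} (ha : a ≠ 0) {b b' : K} (h : cr φ a b = cr φ a b') : b = b' :=
  (cr_bijective φ h2 ha).1 h

/-- the additive bijection `cr a` -/
noncomputable def crEquiv (h2 : (2 : K) ≠ 0) {a : K} (ha : a ≠ 0) : K ≃+ K :=
  AddEquiv.ofBijective (AddMonoidHom.mk' (fun b : K => cr φ a b) fun _ _ => cr_add_right φ _ _ _)
    (cr_bijective φ h2 ha)

/-- `p ≠ 2` in the form used with `CharP` -/
theorem two_ne_of_charP {p : ℕ} [CharP K p] (hp : p ≠ 2) : (2 : K) ≠ 0 := by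
  intro e
  have h1 : p ∣ 2 := (CharP.cast_eq_zero_iff K p 2).1 (by exact_mod_cast e)
  rcases (Nat.dvd_prime Nat.prime_two).1 h1 with h3 | h3
  · have : (1 : K) = 0 := by
      have := (CharP.cast_eq_zero_iff K p 1).2 (by rw [h3])
      exact_mod_cast this
    exact one_ne_zero this
  · exact hp h3

end Cfsg.Agent.H511.TE
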